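import Mathlib
import Groth.Agent.FpqcDescent.Affine

/-!
# Affineness is local for the localizations of the base
-/

set_option autoImplicit false
set_option backward.isDefEq.respectTransparency.types false

universe u

namespace Groth.Agent.ChevAffine

open AlgebraicGeometry CategoryTheory CategoryTheory.Limits TopologicalSpace
open MorphismProperty (of_isPullback)

/-- A flat preimmersion induces isomorphisms on stalks. -/
lemma isIso_stalkMap_of_flat_preimmersion {X Y : Scheme.{u}} (f : X ⟶ Y) [Flat f] [IsPreimmersion f] (x : X) :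
    IsIso (f.stalkMap x) := by
  rw [ConcreteCategory.isIso_iff_bijective]
  refine ⟨?_, f.stalkMap_surjective x⟩
  algebraize [(f.stalkMap x).hom]
  haveI : Module.Flat (Y.presheaf.stalk (f x)) (X.presheaf.stalk x) := Flat.stalkMap f x
  haveI : IsLocalHom (algebraMap (Y.presheaf.stalk (f x)) (X.presheaf.stalk x)) := f.toLRSHom.prop x
  haveI := Module.FaithfullyFlat.of_flat_of_isLocalHom (A := Y.presheaf.stalk (f x)) (B := X.presheaf.stalk x)
  exact FaithfulSMul.algebraMap_injective (Y.presheaf.stalk (f x)) (X.presheaf.stalk x)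

open FpqcDescent in
/-- Formation of `toSpecΓ` commutes with flat base change. -/
lemma isPullback_toSpecΓ {R S : CommRingCat.{u}} {Y : Scheme.{u}} (φ : R ⟶ S)
    (g : Y ⟶ Spec R) [Flat (Spec.map φ)] [QuasiCompact g] [QuasiSeparated g] :
    IsPullback (pullback.fst g (Spec.map φ)) (pullback g (Spec.map φ)).toSpecΓ
      Y.toSpecΓ (Spec.map (pullback.fst g (Spec.map φ)).appTop) ∧
    IsPullback (Spec.map (pullback.fst g (Spec.map φ)).appTop)
      (Spec.map (pullback.snd g (Spec.map φ)).appTop ≫ inv (Spec S).toSpecΓ)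
      (Spec.map g.appTop ≫ inv (Spec R).toSpecΓ) (Spec.map φ) := by
  have : CompactSpace Y := QuasiCompact.compactSpace_of_compactSpace g
  have : QuasiSeparatedSpace Y := quasiSeparatedSpace_of_quasiSeparated g
  have : CompactSpace ↥(pullback g (Spec.map φ)) :=
    QuasiCompact.compactSpace_of_compactSpace (pullback.snd g (Spec.map φ))
  let H := IsPullback.of_hasPullback g (Spec.map φ)
  have hiso := isIso_pushoutSection_of_isQuasiSeparated_of_flat_right H (US := ⊤) (UT := ⊤)
    (UX := ⊤) (UY := ⊤) le_top le_top (by simp) (isAffineOpen_top _) (isAffineOpen_top _)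
    (by simpa using isCompact_univ) (by simpa using isQuasiSeparated_univ)
  have hP := (isIso_pushoutSection_iff ..).mp hiso
  simp only [appLE_top_top] at hP
  have hbot : IsPullback (Spec.map (pullback.fst g (Spec.map φ)).appTop)
      (Spec.map (pullback.snd g (Spec.map φ)).appTop) (Spec.map g.appTop)
      (Spec.map (Spec.map φ).appTop) := hP.op.flip.map Scheme.Spec
  have houter : IsPullback (pullback.fst g (Spec.map φ))
      ((pullback g (Spec.map φ)).toSpecΓ ≫ Spec.map (pullback.snd g (Spec.map φ)).appTop)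
      (Y.toSpecΓ ≫ Spec.map g.appTop) (Spec.map (Spec.map φ).appTop) := by
    rw [← Scheme.toSpecΓ_naturality, ← Scheme.toSpecΓ_naturality]
    exact IsPullback.of_iso H (Iso.refl _) (Iso.refl _) (asIso (Spec S).toSpecΓ)
      (asIso (Spec R).toSpecΓ) (by simp) (by simp) (by simp)
      (by simpa using (Scheme.toSpecΓ_naturality (Spec.map φ)))
  refine ⟨IsPullback.of_bot houter (by rw [Scheme.toSpecΓ_naturality]) hbot, ?_⟩
  refine IsPullback.of_iso hbot (Iso.refl _) (Iso.refl _) (asIso (Spec S).toSpecΓ).symm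
    (asIso (Spec R).toSpecΓ).symm (by simp) (by simp) (by simp) ?_
  simp only [Iso.symm_hom, asIso_inv]
  rw [IsIso.eq_inv_comp, ← Category.assoc, ← Scheme.toSpecΓ_naturality]
  simp

/-- A qcqs scheme over `Spec R` which is affine over every localization of `R` at a prime is affine. -/
theorem isAffine_of_forall_atPrime {R : Type u} [CommRing R] {Z : Scheme.{u}} (p : Z ⟶ Spec (.of R))
    [QuasiCompact p] [QuasiSeparated p]
    (h : ∀ P : PrimeSpectrum R, IsAffine (pullback p
      (Spec.map (CommRingCat.ofHom (algebraMap R (Localization.AtPrime P.asIdeal)))))) : IsAffine Z := by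
  have : CompactSpace Z := QuasiCompact.compactSpace_of_compactSpace p
  set q := Z.toSpecΓ with hq
  let g : Spec Γ(Z, ⊤) ⟶ Spec (.of R) := Spec.map p.appTop ≫ inv (Spec (.of R)).toSpecΓ
  have hg : q ≫ g = p := by
    simp only [hq, g]
    rw [← Category.assoc, ← Scheme.toSpecΓ_naturality, Category.assoc, IsIso.hom_inv_id, Category.comp_id]
  have key : ∀ P : PrimeSpectrum R, ∃ (Z' : Scheme.{u}) (T : Scheme.{u}) (a : Z' ⟶ Z) (q' : Z' ⟶ T)
      (b : T ⟶ Spec Γ(Z, ⊤)), Flat a ∧ IsPreimmersion a ∧ Flat b ∧ IsPreimmersion b ∧ IsIso q' ∧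
        a ≫ q = q' ≫ b ∧ (∀ z, p z = P → z ∈ Set.range a) ∧ (∀ t, g t = P → t ∈ Set.range b) := by
    intro P
    let Rp := Localization.AtPrime P.asIdeal
    let φ := CommRingCat.ofHom (algebraMap R Rp)
    haveI : Flat (Spec.map φ) := by
      rw [HasRingHomProperty.Spec_iff (P := @Flat)]
      exact RingHom.flat_algebraMap_iff.mpr (IsLocalization.flat Rp P.asIdeal.primeCompl)
    haveI : IsPreimmersion (Spec.map φ) := .of_isLocalization P.asIdeal.primeCompl
    haveI : IsAffine (pullback p (Spec.map φ)) := h P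
    obtain ⟨h1, h2⟩ := isPullback_toSpecΓ φ p
    refine ⟨_, _, _, _, _, of_isPullback (P := @Flat) (IsPullback.of_hasPullback p (Spec.map φ)).flip ‹_›,
      inferInstance, of_isPullback (P := @Flat) h2.flip ‹_›,
      of_isPullback (P := @IsPreimmersion) h2.flip ‹_›, inferInstance, h1.w, fun z hz => ?_, fun t ht => ?_⟩
    · rw [Scheme.Pullback.range_fst]
      exact ⟨IsLocalRing.closedPoint Rp, (PrimeSpectrum.ext Localization.AtPrime.under_maximalIdeal :
        (Spec.map φ) (IsLocalRing.closedPoint Rp) = P).trans hz.symm⟩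
    · rw [← h2.isoPullback_hom_fst, Scheme.Hom.comp_base, TopCat.coe_comp, Set.range_comp,
        h2.isoPullback.hom.surjective.range_eq, Set.image_univ, Scheme.Pullback.range_fst]
      exact ⟨IsLocalRing.closedPoint Rp, (PrimeSpectrum.ext Localization.AtPrime.under_maximalIdeal :
        (Spec.map φ) (IsLocalRing.closedPoint Rp) = P).trans ht.symm⟩
  have hinj : Function.Injective q := fun z₁ z₂ he => by
    obtain ⟨Z', T, a, q', b, -, -, -, _, _, hw, ha, -⟩ := key (p z₁)
    have hpz : p z₂ = p z₁ := by rw [← hg]; exact (congrArg g he).symm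
    obtain ⟨w₁, rfl⟩ := ha z₁ rfl
    obtain ⟨w₂, rfl⟩ := ha z₂ hpz
    rw [← Scheme.Hom.comp_apply, ← Scheme.Hom.comp_apply, hw, Scheme.Hom.comp_apply, Scheme.Hom.comp_apply] at he
    rw [q'.homeomorph.injective (b.isEmbedding.injective he : _)]
  have hsurj : Function.Surjective q := fun t => by
    obtain ⟨Z', T, a, q', b, -, -, -, -, _, hw, -, hb⟩ := key (g t)
    obtain ⟨t', rfl⟩ := hb t rfl
    obtain ⟨z', rfl⟩ := q'.surjective t'
    exact ⟨a z', by rw [← Scheme.Hom.comp_apply, hw]; rfl⟩
  haveI : QuasiCompact q := (quasiCompact_iff_compactSpace q).mpr inferInstance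
  have hqc : IsClosedMap q := by
    rw [isClosedMap_iff_specializingMap]
    intro z t ht
    obtain ⟨Z', T, a, q', b, -, -, _, -, _, hw, -, hb⟩ := key (g t)
    obtain ⟨t₀, rfl⟩ := hb t rfl
    obtain ⟨t₁, ht₁, ht₁'⟩ := Flat.generalizingMap b ht
    obtain ⟨w₀, rfl⟩ := q'.surjective t₀
    obtain ⟨w₁, rfl⟩ := q'.surjective t₁
    have hz : a w₁ = z := hinj (by rw [← Scheme.Hom.comp_apply, hw]; exact ht₁')
    refine ⟨a w₀, ?_, by rw [← Scheme.Hom.comp_apply, hw]; rfl⟩
    rw [← hz]
    exact (q'.homeomorph.isInducing.specializes_iff.mp ht₁).map a.continuous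
  haveI : ∀ z, IsIso (q.stalkMap z) := fun z => by
    obtain ⟨Z', T, a, q', b, _, _, _, _, _, hw, ha, -⟩ := key (p z)
    obtain ⟨z', rfl⟩ := ha z rfl
    haveI := isIso_stalkMap_of_flat_preimmersion a z'
    have h1 : IsIso ((q' ≫ b).stalkMap z') := by
      rw [Scheme.Hom.stalkMap_comp]
      exact IsIso.comp_isIso' (isIso_stalkMap_of_flat_preimmersion b (q' z')) inferInstance
    have h2 : IsIso ((a ≫ q).stalkMap z') := by
      rw [Scheme.Hom.stalkMap_congr_hom (a ≫ q) (q' ≫ b) hw]
      exact IsIso.comp_isIso' inferInstance h1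
    rw [Scheme.Hom.stalkMap_comp] at h2
    exact @IsIso.of_isIso_comp_right _ _ _ _ _ (q.stalkMap (a z')) (a.stalkMap z')
      (isIso_stalkMap_of_flat_preimmersion a z') h2
  haveI : IsOpenImmersion q := .of_isIso_stalkMap q
    ((Topology.IsClosedEmbedding.of_continuous_injective_isClosedMap q.continuous hinj
      hqc).isEmbedding.isOpenEmbedding_of_surjective hsurj)
  haveI : Surjective q := ⟨hsurj⟩
  exact ⟨(isIso_iff_isOpenImmersion_and_surjective q).mpr ⟨inferInstance, inferInstance⟩⟩

end Groth.Agent.ChevAffine
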