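import Mathlib
import Groth.Agent.HenselLib.TFAE
import Groth.Agent.HenselLib.Local

/-!
# Images of semi-local schemes whose integral subschemes are local
-/

universe u

namespace Groth.Agent.ChevAffine

open AlgebraicGeometry CategoryTheory TopologicalSpace TensorProduct

/-- A domain integral over a henselian local ring is local. -/
theorem isLocalRing_of_henselian_of_isIntegral (H : Type u) [CommRing H] [HenselianLocalRing H]
    (D : Type u) [CommRing D] [IsDomain D] [Algebra H D] [Algebra.IsIntegral H D] : IsLocalRing D := by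
  refine IsLocalRing.of_nonunits_add fun a b ha hb hab => ?_
  obtain ⟨c, hc⟩ := hab.exists_right_inv
  let E := Algebra.adjoin H ({a, b, c} : Set D)
  have : Module.Finite H E := Algebra.finite_adjoin_of_finite_of_isIntegral
    (Set.toFinite ({a, b, c} : Set D)) fun x _ => Algebra.IsIntegral.isIntegral x
  obtain ⟨ι, _, C, _, hloc, ⟨e⟩⟩ := HenselLib.exists_prod_local_of_surjOn (A := H) (B := E)
    (HenselLib.bijOn_idem (IsLocalRing.maximalIdeal H) E).surjOn
  classical
  have hne : Nonempty ι := by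
    by_contra h
    rw [not_nonempty_iff] at h
    exact zero_ne_one (e.injective (Subsingleton.elim (e 0) (e 1)))
  have hss : Subsingleton ι := ⟨fun i j => by
    by_contra hij
    have h0 : e.symm (Pi.single i 1) * e.symm (Pi.single j 1) = 0 := by
      rw [← map_mul]
      convert map_zero e.symm
      funext k
      rcases eq_or_ne k i with rfl | hk
      · simp [Pi.single_eq_of_ne hij]
      · simp [Pi.single_eq_of_ne hk]
    rcases mul_eq_zero.mp h0 with h | h
    · haveI := hloc i
      exact one_ne_zero (α := C i) (by simpa using congrFun ((map_eq_zero_iff _ e.symm.injective).mp h) i)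
    · haveI := hloc j
      exact one_ne_zero (α := C j) (by simpa using congrFun ((map_eq_zero_iff _ e.symm.injective).mp h) j)⟩
  obtain ⟨i⟩ := hne
  haveI := hloc i
  letI : Unique ι := uniqueOfSubsingleton i
  haveI : IsLocalRing E := (e.trans (RingEquiv.piUnique C)).symm.isLocalRing
  refine IsLocalRing.nonunits_add
    (show (⟨a, Algebra.subset_adjoin (by simp)⟩ : E) ∈ nonunits E from fun h => ha (h.map E.val))
    (show (⟨b, Algebra.subset_adjoin (by simp)⟩ : E) ∈ nonunits E from fun h => hb (h.map E.val))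
    (IsUnit.of_mul_eq_one (⟨c, Algebra.subset_adjoin (by simp)⟩ : E) (Subtype.ext hc))

/-- In an integral algebra over a henselian local ring each prime lies in one maximal ideal. -/
theorem eq_of_le_maximal (H : Type u) [CommRing H] [HenselianLocalRing H] (B : Type u) [CommRing B]
    [Algebra H B] [Algebra.IsIntegral H B] {P M M' : Ideal B} [P.IsPrime] (hM : M.IsMaximal)
    (hM' : M'.IsMaximal) (h : P ≤ M) (h' : P ≤ M') : M = M' := by
  have : Algebra.IsIntegral H (B ⧸ P) :=
    Algebra.IsIntegral.of_surjective (Ideal.Quotient.mkₐ H P) Ideal.Quotient.mk_surjective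
  haveI := isLocalRing_of_henselian_of_isIntegral H (B ⧸ P)
  have hmax : ∀ {N : Ideal B}, N.IsMaximal → P ≤ N →
      N = (IsLocalRing.maximalIdeal (B ⧸ P)).comap (Ideal.Quotient.mk P) := by
    intro N hN hPN
    have h1 : (N.map (Ideal.Quotient.mk P)).IsMaximal :=
      Ideal.IsMaximal.map_of_surjective_of_ker_le Ideal.Quotient.mk_surjective (by rwa [Ideal.mk_ker])
    rw [← IsLocalRing.eq_maximalIdeal h1, Ideal.comap_map_of_surjective _ Ideal.Quotient.mk_surjective,
      ← RingHom.ker_eq_comap_bot, Ideal.mk_ker, sup_eq_left.mpr hPN]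
  rw [hmax hM h, hmax hM' h']

/-- If every prime of `B` lies in exactly one of finitely many maximal ideals, the primes below a given one
form a closed set. -/
theorem isClosed_setOf_le {B : Type u} [CommRing B]
    (huniq : ∀ {P M M' : Ideal B} [P.IsPrime], M.IsMaximal → M'.IsMaximal → P ≤ M → P ≤ M' → M = M')
    {M : Ideal B} (hM : M.IsMaximal) : IsClosed {P : PrimeSpectrum B | P.asIdeal ≤ M} := by
  haveI := hM.isPrime
  suffices {P : PrimeSpectrum B | P.asIdeal ≤ M} =
      PrimeSpectrum.zeroLocus (RingHom.ker (algebraMap B (Localization.AtPrime M)) : Set B) by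
    rw [this]; exact PrimeSpectrum.isClosed_zeroLocus _
  ext P
  constructor
  · intro hP x hx
    obtain ⟨⟨s, hs⟩, hsx⟩ := (IsLocalization.map_eq_zero_iff M.primeCompl _ x).mp hx
    exact (P.2.mem_or_mem (by rw [show s * x = 0 from hsx]; exact zero_mem _)).resolve_left
      fun h => hs (hP h)
  · intro hP
    obtain ⟨Q, hQ, hQP⟩ := Ideal.exists_minimalPrimes_le (I := RingHom.ker (algebraMap B (Localization.AtPrime M)))
      (J := P.asIdeal) hP
    obtain ⟨R, hR, -, hRQ⟩ := Ideal.exists_comap_eq_of_mem_minimalPrimes (algebraMap B (Localization.AtPrime M))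
      (I := ⊥) Q (by rwa [← RingHom.ker_eq_comap_bot])
    haveI := hQ.1.1
    have hQM : Q ≤ M := by
      intro x hx
      by_contra hxM
      rw [← hRQ] at hx
      exact hR.ne_top (Ideal.eq_top_of_isUnit_mem _ hx
        (IsLocalization.map_units (Localization.AtPrime M) (⟨x, hxM⟩ : M.primeCompl)))
    obtain ⟨N, hN, hPN⟩ := Ideal.exists_le_maximal P.asIdeal P.2.ne_top
    show P.asIdeal ≤ M
    rw [huniq hM hN hQM (hQP.trans hPN)]
    exact hPN

/-- The image of a semi-local affine scheme, all of whose integral closed subschemes are local, under a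
surjective closed map is affine. -/
theorem isAffine_of_closedMap_from_semilocal {B : CommRingCat.{u}} [Finite (MaximalSpectrum B)]
    (huniq : ∀ {P M M' : Ideal B} [P.IsPrime], M.IsMaximal → M'.IsMaximal → P ≤ M → P ≤ M' → M = M')
    {Z : Scheme.{u}} (h : Spec B ⟶ Z) (hs : Function.Surjective h) (hc : IsClosedMap h) : IsAffine Z := by
  let pt : MaximalSpectrum B → Spec B := fun M => ⟨M.asIdeal, M.isMaximal.isPrime⟩
  let Y : Set Z := Set.range fun M => h (pt M)
  haveI : Finite Y := Finite.Set.finite_range _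
  let W : Y → Set Z := fun y => h '' ⋃ M ∈ {M : MaximalSpectrum B | h (pt M) = y},
    {P : PrimeSpectrum B | P.asIdeal ≤ M.asIdeal}
  have hWc : ∀ y, IsClosed (W y) := fun y => hc _
    (Set.Finite.isClosed_biUnion (Set.toFinite _) fun M _ => isClosed_setOf_le huniq M.isMaximal)
  have hspec : ∀ y, ∀ z ∈ W y, z ⤳ (y : Z) := by
    rintro y _ ⟨P, hP, rfl⟩
    obtain ⟨M, hMy, hPM⟩ := Set.mem_iUnion₂.mp hP
    rw [← show h (pt M) = y from hMy]
    exact ((PrimeSpectrum.le_iff_specializes P (pt M)).mp hPM).map h.continuous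
  have hdisj : ∀ y y', y ≠ y' → Disjoint (W y) (W y') := by
    intro y y' hne
    rw [Set.disjoint_left]
    intro z hz hz'
    refine hne (Subtype.ext ?_)
    have key : ∀ a b : Y, z ∈ W a → z ⤳ (b : Z) → (b : Z) ⤳ (a : Z) := by
      rintro a b ⟨P, hP, rfl⟩ hzb
      obtain ⟨M, hMa, hPM⟩ := Set.mem_iUnion₂.mp hP
      obtain ⟨P', hP', hP'b⟩ := hc.specializingMap hzb
      obtain ⟨N, hN, hP'N⟩ := Ideal.exists_le_maximal P'.asIdeal P'.2.ne_top
      have hle : P.asIdeal ≤ P'.asIdeal := (PrimeSpectrum.le_iff_specializes P P').mpr hP'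
      have := huniq M.isMaximal hN hPM (hle.trans hP'N)
      rw [← show h (pt M) = a from hMa, ← show h P' = b from hP'b]
      exact ((PrimeSpectrum.le_iff_specializes P' (pt M)).mp (this ▸ hP'N : P'.asIdeal ≤ M.asIdeal)).map
        h.continuous
    exact ((key y' y hz' (hspec y z hz)).antisymm (key y y' hz (hspec y' z hz'))).eq
  have hcover : ⋃ y, W y = Set.univ := by
    refine Set.eq_univ_iff_forall.mpr fun z => ?_
    obtain ⟨P, rfl⟩ := hs z
    obtain ⟨N, hN, hPN⟩ := Ideal.exists_le_maximal P.asIdeal P.2.ne_top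
    exact Set.mem_iUnion.mpr ⟨⟨_, ⟨N, hN⟩, rfl⟩, P, Set.mem_iUnion₂.mpr ⟨⟨N, hN⟩, rfl, hPN⟩, rfl⟩
  have hWo : ∀ y, IsOpen (W y) := fun y => by
    have : W y = (⋃ y' ∈ {y' | y' ≠ y}, W y')ᶜ := by
      ext z
      simp only [Set.mem_compl_iff, Set.mem_iUnion, Set.mem_setOf_eq, not_exists]
      constructor
      · exact fun hz y' hne hz' => Set.disjoint_left.mp (hdisj y' y hne) hz' hz
      · intro hz
        obtain ⟨y', hy'⟩ := Set.mem_iUnion.mp (hcover ▸ Set.mem_univ z)
        rcases eq_or_ne y' y with rfl | hne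
        · exact hy'
        · exact absurd hy' (hz y' hne)
    rw [this, isOpen_compl_iff]
    exact Set.Finite.isClosed_biUnion (Set.toFinite _) fun y' _ => hWc y'
  let O : Y → Z.Opens := fun y => ⟨W y, hWo y⟩
  have hOaff : ∀ y, IsAffineOpen (O y) := by
    intro y
    obtain ⟨U, hU, hyU, -⟩ := exists_isAffineOpen_mem_and_subset (U := (⊤ : Z.Opens)) (x := (y : Z)) trivial
    have hle : O y ≤ U := fun z hz => (hspec y z hz).mem_open U.isOpen hyU
    haveI : IsAffine U := hU
    haveI : IsClosedImmersion (Z.homOfLE hle) := by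
      refine IsClosedImmersion.of_isPreimmersion _ ?_
      have : Set.range (Z.homOfLE hle) = U.ι ⁻¹' W y := by
        ext x
        constructor
        · rintro ⟨w, rfl⟩
          show U.ι (Z.homOfLE hle w) ∈ W y
          rw [← Scheme.Hom.comp_apply, Scheme.homOfLE_ι]
          exact w.2
        · intro hx
          exact ⟨⟨U.ι x, hx⟩, U.ι.injective (by rw [← Scheme.Hom.comp_apply, Scheme.homOfLE_ι]; rfl)⟩
      rw [this]
      exact (hWc y).preimage U.ι.continuous
    exact isAffine_of_isAffineHom (Z.homOfLE hle)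
  have htop : (⨆ y, O y) = ⊤ := top_le_iff.mp fun z _ => by
    obtain ⟨y, hy⟩ := Set.mem_iUnion.mp (hcover ▸ Set.mem_univ z)
    exact Opens.mem_iSup.mpr ⟨y, hy⟩
  have := IsAffineOpen.iSup_of_disjoint hOaff fun y y' hne =>
    disjoint_iff.mpr (Opens.ext (Set.disjoint_iff_inter_eq_empty.mp (hdisj y y' hne)))
  rw [htop] at this
  haveI : IsAffine (⊤ : Z.Opens) := this
  exact .of_isIso Z.topIso.inv

/-- If `R → H` is surjective up to units modulo `J`, primes of `H ⊗ B` containing `J` are determined by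
their contraction to `B`. -/
theorem comap_includeRight_injOn {R H B : Type u} [CommRing R] [CommRing H] [CommRing B] [Algebra R H]
    [Algebra R B] (J : Ideal H)
    (hJ : ∀ x : H, ∃ r s : R, IsUnit (algebraMap R H s) ∧ x * algebraMap R H s - algebraMap R H r ∈ J) :
    Set.InjOn (Ideal.comap (Algebra.TensorProduct.includeRight (R := R) (A := H) (B := B)))
      {P | P.IsPrime ∧ J.map (Algebra.TensorProduct.includeLeftRingHom (R := R) (A := H) (B := B)) ≤ P} := by
  have hrep : ∀ x : H ⊗[R] B, ∃ (s : R) (b : B), IsUnit (algebraMap R H s) ∧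
      x * (algebraMap R H s ⊗ₜ 1) - 1 ⊗ₜ b ∈
        J.map (Algebra.TensorProduct.includeLeftRingHom (R := R) (A := H) (B := B)) := by
    intro x
    induction x using TensorProduct.induction_on with
    | zero => exact ⟨1, 0, by simp, by simp⟩
    | tmul h b =>
      obtain ⟨r, s, hs, hrs⟩ := hJ h
      refine ⟨s, r • b, hs, ?_⟩
      rw [Algebra.TensorProduct.tmul_mul_tmul, mul_one, ← TensorProduct.smul_tmul, Algebra.smul_def, mul_one,
        ← TensorProduct.sub_tmul,
        show (h * algebraMap R H s - algebraMap R H r) ⊗ₜ[R] b =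
          (Algebra.TensorProduct.includeLeftRingHom (h * algebraMap R H s - algebraMap R H r)) * (1 ⊗ₜ b) by
            simp]
      exact Ideal.mul_mem_right _ _ (Ideal.mem_map_of_mem _ hrs)
    | add x y hx hy =>
      obtain ⟨s, b, hs, hx⟩ := hx
      obtain ⟨t, c, ht, hy⟩ := hy
      refine ⟨s * t, t • b + s • c, by rw [map_mul]; exact hs.mul ht, ?_⟩
      have e1 : ∀ (r : R) (a : B), (1 : H) ⊗ₜ[R] (r • a) = (algebraMap R H r ⊗ₜ 1) * (1 ⊗ₜ a) := fun r a => by
        rw [Algebra.TensorProduct.tmul_mul_tmul, one_mul, mul_one, ← TensorProduct.smul_tmul,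
          Algebra.smul_def, mul_one]
      have e2 : (algebraMap R H (s * t)) ⊗ₜ[R] (1 : B) = (algebraMap R H s ⊗ₜ 1) * (algebraMap R H t ⊗ₜ 1) := by
        rw [Algebra.TensorProduct.tmul_mul_tmul, mul_one, map_mul]
      have e3 : (x + y) * (algebraMap R H (s * t) ⊗ₜ 1) - 1 ⊗ₜ (t • b + s • c) =
          (algebraMap R H t ⊗ₜ 1) * (x * (algebraMap R H s ⊗ₜ 1) - 1 ⊗ₜ b) +
          (algebraMap R H s ⊗ₜ 1) * (y * (algebraMap R H t ⊗ₜ 1) - 1 ⊗ₜ c) := by
        rw [TensorProduct.tmul_add, e1, e1, e2]; ring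
      rw [e3]
      exact add_mem (Ideal.mul_mem_left _ _ hx) (Ideal.mul_mem_left _ _ hy)
  suffices key : ∀ P Q : Ideal (H ⊗[R] B),
      J.map (Algebra.TensorProduct.includeLeftRingHom (R := R) (A := H) (B := B)) ≤ P →
      Q.IsPrime → J.map (Algebra.TensorProduct.includeLeftRingHom (R := R) (A := H) (B := B)) ≤ Q →
      P.comap (Algebra.TensorProduct.includeRight (R := R) (A := H) (B := B)) ≤
        Q.comap (Algebra.TensorProduct.includeRight (R := R) (A := H) (B := B)) → P ≤ Q by
    rintro P ⟨hP, hPJ⟩ Q ⟨hQ, hQJ⟩ hPQ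
    exact le_antisymm (key P Q hPJ hQ hQJ hPQ.le) (key Q P hQJ hP hPJ hPQ.ge)
  intro P Q hPJ hQ hQJ hle x hx
  obtain ⟨s, b, hs, hsb⟩ := hrep x
  have hbP : (1 : H) ⊗ₜ[R] b ∈ P := by
    simpa using P.sub_mem (P.mul_mem_right (algebraMap R H s ⊗ₜ 1) hx) (hPJ hsb)
  have hbQ : (1 : H) ⊗ₜ[R] b ∈ Q := hle hbP
  have := Q.add_mem (hQJ hsb) hbQ
  rw [sub_add_cancel] at this
  refine (hQ.mem_or_mem this).resolve_right fun h => hQ.ne_top (Ideal.eq_top_of_isUnit_mem _ h ?_)
  exact hs.map (Algebra.TensorProduct.includeLeftRingHom (R := R) (A := H) (B := B))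

end Groth.Agent.ChevAffine
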