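import Mathlib
import Groth.Agent.ChevAffine.Semilocal
import Groth.Agent.ChevAffine.Local
import Groth.Agent.FpqcDescent.Affine
import Groth.Agent.HenselLib.HenselizationLocal
import Groth.Agent.HenselLib.HenselizationProps

/-!
# Affineness of the image of an integral morphism with finite fibres
-/

set_option autoImplicit false
set_option backward.isDefEq.respectTransparency.types false

universe u

namespace Groth.Agent.ChevAffine

open AlgebraicGeometry CategoryTheory CategoryTheory.Limits TopologicalSpace TensorProduct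
open MorphismProperty (of_isPullback)

/-- Base change of a morphism out of an affine scheme along an affine base. -/
lemma exists_baseChange {R H B : Type u} [CommRing R] [CommRing H] [CommRing B] [Algebra R H]
    [Algebra R B] {Z : Scheme.{u}} (h : Spec (.of B) ⟶ Z) (p : Z ⟶ Spec (.of R))
    (hp : h ≫ p = Spec.map (CommRingCat.ofHom (algebraMap R B))) :
    ∃ h' : Spec (.of (H ⊗[R] B)) ⟶ pullback p (Spec.map (CommRingCat.ofHom (algebraMap R H))),
      IsPullback h' (Spec.map (CommRingCat.ofHom
          (Algebra.TensorProduct.includeRight (R := R) (A := H) (B := B)).toRingHom))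
        (pullback.fst p _) h ∧
      h' ≫ pullback.snd p _ = Spec.map (CommRingCat.ofHom (algebraMap H (H ⊗[R] B))) := by
  set ψ := Spec.map (CommRingCat.ofHom (algebraMap R H))
  let l := Spec.map (CommRingCat.ofHom (algebraMap H (H ⊗[R] B)))
  let r := Spec.map (CommRingCat.ofHom
      (Algebra.TensorProduct.includeRight (R := R) (A := H) (B := B)).toRingHom)
  have hbig : IsPullback l r ψ (h ≫ p) := by
    rw [hp]
    exact IsPullback.of_iso_pullback ⟨by
        simp only [l, r, ψ, ← Spec.map_comp, ← CommRingCat.ofHom_comp]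
        congr 2
        ext x
        simp [Algebra.TensorProduct.algebraMap_apply]⟩
      (pullbackSpecIso R H B).symm (pullbackSpecIso_inv_fst R H B)
      (pullbackSpecIso_inv_snd R H B)
  let h' : Spec (.of (H ⊗[R] B)) ⟶ pullback p ψ :=
    pullback.lift (r ≫ h) l (by rw [Category.assoc, ← hbig.w])
  refine ⟨h', ?_, pullback.lift_snd _ _ _⟩
  refine IsPullback.of_right (by rw [pullback.lift_snd]; exact hbig) (pullback.lift_fst _ _ _)
    (IsPullback.of_hasPullback p ψ).flip

/-- The image of a semi-local integral scheme over a local ring is affine. -/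
theorem isAffine_of_local {R B : Type u} [CommRing R] [IsLocalRing R] [CommRing B] [Algebra R B]
    [Algebra.IsIntegral R B] [Finite (MaximalSpectrum B)] {Z : Scheme.{u}}
    (h : Spec (.of B) ⟶ Z) [Surjective h] (p : Z ⟶ Spec (.of R)) [IsSeparated p]
    (hp : h ≫ p = Spec.map (CommRingCat.ofHom (algebraMap R B))) : IsAffine Z := by
  open IsLocalRing in
  obtain ⟨H, _, _, ρ, hH⟩ := HenselLib.exists_isNbhdColim R (ResidueField R)
    (HenselLib.generated_of_fraction fun a => by
      obtain ⟨r, rfl⟩ := residue_surjective a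
      exact ⟨r, 1, by simp, by simp⟩)
  have hm : ∀ r ∈ IsLocalRing.maximalIdeal R, algebraMap R (IsLocalRing.ResidueField R) r = 0 :=
    fun r hr => HenselLib.algebraMap_residueField_eq_zero hr
  haveI := hH.henselian
  haveI := hH.isLocalHom hm
  haveI := hH.faithfullyFlat hm
  haveI : IsIntegralHom (h ≫ p) := by
    rw [hp, IsIntegralHom.SpecMap_iff]
    exact algebraMap_isIntegral_iff.mpr ‹_›
  haveI : IsIntegralHom h := IsIntegralHom.of_comp h p
  haveI : CompactSpace Z := ⟨by
    rw [← h.surjective.range_eq]; exact isCompact_range h.continuous⟩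
  haveI : QuasiCompact p := (quasiCompact_iff_compactSpace p).mpr inferInstance
  obtain ⟨h', hpb, -⟩ := exists_baseChange (H := H) h p hp
  haveI : Surjective h' := of_isPullback (P := @Surjective) hpb.flip ‹_›
  haveI : IsIntegralHom h' := of_isPullback (P := @IsIntegralHom) hpb.flip ‹_›
  haveI : Finite (MaximalSpectrum (H ⊗[R] B)) := by
    have hmem : ∀ M : MaximalSpectrum (H ⊗[R] B), M.asIdeal.IsPrime ∧
        (IsLocalRing.maximalIdeal H).map
          (Algebra.TensorProduct.includeLeftRingHom (R := R) (A := H) (B := B)) ≤ M.asIdeal := fun M => by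
      haveI := M.isMaximal
      refine ⟨M.isMaximal.isPrime, Ideal.map_le_iff_le_comap.mpr (le_of_eq ?_)⟩
      exact (IsLocalRing.eq_maximalIdeal (Ideal.isMaximal_comap_of_isIntegral_of_isMaximal
        (R := H) M.asIdeal)).symm
    have hc : ∀ M : MaximalSpectrum (H ⊗[R] B), (M.asIdeal.comap
        (Algebra.TensorProduct.includeRight (R := R) (A := H) (B := B))).IsMaximal := fun M => by
      haveI := (hmem M).1
      refine Ideal.isMaximal_of_isIntegral_of_isMaximal_comap (R := R) _ ?_
      rw [show (M.asIdeal.comap (Algebra.TensorProduct.includeRight (R := R) (A := H) (B := B))).comap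
          (algebraMap R B) = (M.asIdeal.comap (algebraMap H (H ⊗[R] B))).comap (algebraMap R H) by
        ext r
        simp [Ideal.mem_comap, ← IsScalarTower.algebraMap_apply]]
      rw [IsLocalRing.eq_maximalIdeal (Ideal.isMaximal_comap_of_isIntegral_of_isMaximal
        (R := H) M.asIdeal (hI := M.isMaximal))]
      rw [((IsLocalRing.local_hom_TFAE (algebraMap R H)).out 0 4 rfl rfl).mp inferInstance]
      exact IsLocalRing.maximalIdeal.isMaximal R
    refine Finite.of_injective (fun M => (⟨_, hc M⟩ : MaximalSpectrum B)) fun M M' he => ?_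
    refine MaximalSpectrum.ext (comap_includeRight_injOn (R := R) (B := B) (IsLocalRing.maximalIdeal H)
      (fun x => ?_) (hmem M) (hmem M') (congrArg MaximalSpectrum.asIdeal he))
    obtain ⟨r, hr⟩ := IsLocalRing.residue_surjective (ρ x)
    refine ⟨r, 1, by simp, ?_⟩
    rw [map_one, mul_one, hH.mem_maximal_iff, map_sub, AlgHom.commutes, ← hr]
    exact sub_self _
  haveI : IsAffine (pullback p (Spec.map (CommRingCat.ofHom (algebraMap R H)))) :=
    isAffine_of_closedMap_from_semilocal (B := .of (H ⊗[R] B))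
      (fun {P M M'} _ hM hM' => eq_of_le_maximal H (H ⊗[R] B) hM hM') h' h'.surjective h'.isClosedMap
  haveI : Flat (Spec.map (CommRingCat.ofHom (algebraMap R H))) := by
    rw [HasRingHomProperty.Spec_iff (P := @Flat)]
    exact RingHom.flat_algebraMap_iff.mpr inferInstance
  haveI : Surjective (Spec.map (CommRingCat.ofHom (algebraMap R H))) :=
    ⟨PrimeSpectrum.comap_surjective_of_faithfullyFlat⟩
  exact FpqcDescent.isAffine_of_isAffine_pullback (CommRingCat.ofHom (algebraMap R H)) p

/-- The image of an integral scheme with finite fibres over an affine scheme is affine. -/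
theorem isAffine_of_finite_fibres {R B : Type u} [CommRing R] [CommRing B] [Algebra R B]
    [Algebra.IsIntegral R B]
    (hfin : ∀ P : PrimeSpectrum R, (PrimeSpectrum.comap (algebraMap R B) ⁻¹' {P}).Finite)
    {Z : Scheme.{u}} (h : Spec (.of B) ⟶ Z) [Surjective h] (p : Z ⟶ Spec (.of R)) [IsSeparated p]
    (hp : h ≫ p = Spec.map (CommRingCat.ofHom (algebraMap R B))) : IsAffine Z := by
  haveI : IsIntegralHom (h ≫ p) := by
    rw [hp, IsIntegralHom.SpecMap_iff]
    exact algebraMap_isIntegral_iff.mpr ‹_›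
  haveI : CompactSpace Z := ⟨by
    rw [← h.surjective.range_eq]; exact isCompact_range h.continuous⟩
  haveI : QuasiCompact p := (quasiCompact_iff_compactSpace p).mpr inferInstance
  refine isAffine_of_forall_atPrime p fun P => ?_
  let Rp := Localization.AtPrime P.asIdeal
  let φ := CommRingCat.ofHom (algebraMap R Rp)
  haveI : Flat (Spec.map φ) := by
    rw [HasRingHomProperty.Spec_iff (P := @Flat)]
    exact RingHom.flat_algebraMap_iff.mpr (IsLocalization.flat Rp P.asIdeal.primeCompl)
  haveI : IsPreimmersion (Spec.map φ) := .of_isLocalization P.asIdeal.primeCompl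
  obtain ⟨h', hpb, hh'⟩ := exists_baseChange (H := Rp) h p hp
  haveI : Surjective h' := of_isPullback (P := @Surjective) hpb.flip ‹_›
  haveI : Finite (MaximalSpectrum (Rp ⊗[R] B)) := by
    have hmem : ∀ M : MaximalSpectrum (Rp ⊗[R] B), M.asIdeal.IsPrime ∧
        (IsLocalRing.maximalIdeal Rp).map
          (Algebra.TensorProduct.includeLeftRingHom (R := R) (A := Rp) (B := B)) ≤ M.asIdeal := fun M => by
      haveI := M.isMaximal
      refine ⟨M.isMaximal.isPrime, Ideal.map_le_iff_le_comap.mpr (le_of_eq ?_)⟩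
      exact (IsLocalRing.eq_maximalIdeal (Ideal.isMaximal_comap_of_isIntegral_of_isMaximal
        (R := Rp) M.asIdeal)).symm
    have hc : ∀ M : MaximalSpectrum (Rp ⊗[R] B), ∃ Q : PrimeSpectrum B,
        Q ∈ PrimeSpectrum.comap (algebraMap R B) ⁻¹' {P} ∧ Q.asIdeal = M.asIdeal.comap
          (Algebra.TensorProduct.includeRight (R := R) (A := Rp) (B := B)) := fun M => by
      haveI := (hmem M).1
      refine ⟨⟨_, Ideal.comap_isPrime _ M.asIdeal⟩, PrimeSpectrum.ext ?_, rfl⟩
      show (M.asIdeal.comap (Algebra.TensorProduct.includeRight (R := R) (A := Rp) (B := B))).comap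
        (algebraMap R B) = P.asIdeal
      rw [show (M.asIdeal.comap (Algebra.TensorProduct.includeRight (R := R) (A := Rp) (B := B))).comap
          (algebraMap R B) = (M.asIdeal.comap (algebraMap Rp (Rp ⊗[R] B))).comap (algebraMap R Rp) by
        ext r
        simp only [Ideal.mem_comap, AlgHom.commutes, ← IsScalarTower.algebraMap_apply]]
      rw [IsLocalRing.eq_maximalIdeal (Ideal.isMaximal_comap_of_isIntegral_of_isMaximal
        (R := Rp) M.asIdeal (hI := M.isMaximal))]
      exact Localization.AtPrime.under_maximalIdeal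
    choose Q hQ hQ' using hc
    haveI := (hfin P).to_subtype
    refine Finite.of_injective (fun M => (⟨Q M, hQ M⟩ :
      ↥(PrimeSpectrum.comap (algebraMap R B) ⁻¹' {P}))) fun M M' he => ?_
    refine MaximalSpectrum.ext (comap_includeRight_injOn (R := R) (B := B) (IsLocalRing.maximalIdeal Rp)
      (fun x => ?_) (hmem M) (hmem M') ?_)
    · obtain ⟨r, s, rfl⟩ := IsLocalization.exists_mk'_eq P.asIdeal.primeCompl x
      refine ⟨r, s, IsLocalization.map_units Rp s, ?_⟩
      rw [IsLocalization.mk'_spec, sub_self]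
      exact zero_mem _
    · rw [← hQ', ← hQ', show Q M = Q M' from congrArg Subtype.val he]
  exact isAffine_of_local h' (pullback.snd p _) hh'

/-- The image of an integral morphism with finite fibres in a separated scheme is integral. -/
theorem isIntegralHom_of_surjective {X Z S : Scheme.{u}} (h : X ⟶ Z) [Surjective h] (p : Z ⟶ S)
    [IsSeparated p] [IsIntegralHom (h ≫ p)] (hfin : ∀ s : S, ((h ≫ p) ⁻¹' {s}).Finite) :
    IsIntegralHom p := by
  haveI : UniversallyClosed p := .of_comp_surjective h p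
  suffices IsAffineHom p by
    rw [IsIntegralHom.eq_universallyClosed_inf_isAffineHom]; exact ⟨inferInstance, this⟩
  refine ⟨fun U hU => ?_⟩
  haveI : IsIntegralHom ((h ≫ p) ∣_ U) := IsZariskiLocalAtTarget.restrict ‹_› _
  haveI : IsSeparated (p ∣_ U) := IsZariskiLocalAtTarget.restrict ‹_› _
  haveI : IsAffine U := hU
  haveI : IsAffine ((h ≫ p) ⁻¹ᵁ U) := isAffine_of_isAffineHom ((h ≫ p) ∣_ U)
  let XU := ((h ≫ p) ⁻¹ᵁ U : Scheme.{u})
  let hU' : XU ⟶ (p ⁻¹ᵁ U : Scheme.{u}) := h ∣_ (p ⁻¹ᵁ U)
  haveI : Surjective hU' := IsZariskiLocalAtTarget.restrict (P := @Surjective) ‹_› _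
  let ψ : (Γ(U, ⊤) : CommRingCat) ⟶ Γ(XU, ⊤) := ((h ≫ p) ∣_ U).appTop
  letI : Algebra Γ(U, ⊤) Γ(XU, ⊤) := ψ.hom.toAlgebra
  have hcomp : hU' ≫ (p ∣_ U) = (h ≫ p) ∣_ U := (morphismRestrict_comp h p U).symm
  have hh : (XU.isoSpec.inv ≫ hU') ≫ (p ∣_ U) ≫ (U : Scheme.{u}).isoSpec.hom = Spec.map ψ := by
    rw [Category.assoc, ← Category.assoc hU', hcomp, ← Category.assoc XU.isoSpec.inv]
    exact (by rw [Category.assoc, ← Scheme.isoSpec_hom_naturality, Iso.inv_hom_id_assoc] :
      (XU.isoSpec.inv ≫ ((h ≫ p) ∣_ U)) ≫ (U : Scheme.{u}).isoSpec.hom = Spec.map ψ)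
  haveI : Algebra.IsIntegral Γ(U, ⊤) Γ(XU, ⊤) := by
    have : IsIntegralHom (Spec.map ψ) := by
      rw [show Spec.map ψ = XU.isoSpec.inv ≫ ((h ≫ p) ∣_ U) ≫ (U : Scheme.{u}).isoSpec.hom by
        rw [← hh, ← hcomp, Category.assoc, Category.assoc]]
      infer_instance
    exact algebraMap_isIntegral_iff.mp (IsIntegralHom.SpecMap_iff.mp this)
  refine isAffine_of_finite_fibres (R := Γ(U, ⊤)) (B := Γ(XU, ⊤)) (fun P => ?_)
    (XU.isoSpec.inv ≫ hU') ((p ∣_ U) ≫ (U : Scheme.{u}).isoSpec.hom) hh
  let s : S := U.ι ((U : Scheme.{u}).isoSpec.inv P)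
  refine ((hfin s).preimage (f := fun x => ((h ≫ p) ⁻¹ᵁ U).ι (XU.isoSpec.inv x)) ?_).subset ?_
  · exact fun a _ b _ he => XU.isoSpec.inv.homeomorph.injective (Scheme.Hom.injective _ he)
  · intro x hx
    show (h ≫ p) (((h ≫ p) ⁻¹ᵁ U).ι (XU.isoSpec.inv x)) = U.ι ((U : Scheme.{u}).isoSpec.inv P)
    rw [← show Spec.map ψ x = P from hx, ← hh]
    have heq : (XU.isoSpec.inv ≫ ((h ≫ p) ⁻¹ᵁ U).ι) ≫ (h ≫ p) =
        ((XU.isoSpec.inv ≫ hU') ≫ (p ∣_ U) ≫ (U : Scheme.{u}).isoSpec.hom) ≫
          (U : Scheme.{u}).isoSpec.inv ≫ U.ι := by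
      simp only [Category.assoc, Iso.hom_inv_id_assoc]
      rw [← Category.assoc hU', hcomp, morphismRestrict_ι]
    exact congrArg (fun F : Spec Γ(XU, ⊤) ⟶ S => F x) heq

end Groth.Agent.ChevAffine
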